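import Cfsg.Agent.Lib.SylowAut74.Graph
import Cfsg.Agent.Lib.LocalEven.Glue.Final
import Cfsg.Agent.Lib.LocalEven.Glue.Model
import Cfsg.Agent.Lib.LocalEven.Baumann.ExcCentralizer

/-!
The module of the block of a minimal offender is an atom of the Sylow 2-subgroup.
-/

set_option autoImplicit false

namespace CfsgLib.SylowAut74

open CfsgLib.LocalEven.PGV CfsgLib.LocalEven.OffenderSL2 CfsgLib.LocalEven.MinPar
open CfsgLib.LocalEven.CStarMin CfsgLib.LocalEven.Glue CfsgLib.PLocal Cfsg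
open CfsgLib.LocalEven.NaturalRecognition
open CfsgLib.LocalEven.OffenderSL2.Setup (up_mulVec lo_mulVec)
open scoped IsMulCommutative MatrixGroups

universe u

variable {G : Type u} [Group G] [Finite G] {T : Sylow 2 G} {M : Subgroup G}
  (c : Ctx T M) {a : Subgroup (Γ (Additive ↥(VV G 2)))}
  (ha : Off 2 (PP G 2) a) (haT : a ≤ bar 2 (T : Subgroup G))
  (d : Datum 2 (PP G 2) (bar 2 M) (bar 2 (T : Subgroup G)) a)
  {E : Subgroup G} (hE : AtomBlock T M d E)

/-- The coordinates of an element of `V`. -/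
noncomputable def crd (v : ↥(VV G 2)) : Fin 2 → d.F := d.ψ (Additive.ofMul v)

/-- Conjugation on `V`. -/
noncomputable def cjV (g : G) (v : ↥(VV G 2)) : ↥(VV G 2) :=
  ⟨g * (v : G) * g⁻¹, (VV_normal (G := G) 2).conj_mem _ v.2 g⟩

omit [Finite G] in
theorem smul_ofMul (g : G) (v : ↥(VV G 2)) :
    act (VV G 2) g • Additive.ofMul v = Additive.ofMul (cjV g v) :=
  Additive.toMul.injective (Subtype.ext (act_apply (VV G 2) g _))

omit [Finite G] in
theorem crd_mul (v w : ↥(VV G 2)) : crd d (v * w) = crd d v + crd d w := map_add d.ψ _ _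

omit [Finite G] in
theorem crd_inv (v : ↥(VV G 2)) : crd d v⁻¹ = -crd d v := map_neg d.ψ _

omit [Finite G] in
theorem crd_cj_of_mem {g : G} {l : ↥d.L} (h : act (VV G 2) g = (l : Γ _)) (v : ↥(VV G 2)) :
    crd d (cjV g v) = (d.ρ l).1.mulVec (crd d v) := by
  rw [crd, ← smul_ofMul, h, d.compat]
  rfl

instance charTwo : CharP d.F 2 := CfsgLib.Baumann.charP_of_card d.card

include c ha haT in
theorem smul_rest {r : Γ (Additive ↥(VV G 2))}
    (hr : r ∈ restSup 2 (PP G 2) (bar 2 (T : Subgroup G)) a) (w : Additive ↥(VV G 2)) :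
    d.ψ (r • w) = d.ψ w := by
  have hcom : ∀ g ∈ d.L, ∀ v : Additive ↥(VV G 2), r • g • v = g • r • v := fun g hg v => by
    rw [smul_smul, smul_smul, (d.restSup_commute hr hg).eq]
  have hker : ∀ v, d.ψ v = 0 → d.ψ (r • v) = 0 := fun v hv => (d.ker _).2 fun g hg => by
    rw [← hcom g hg, (d.ker v).1 hv g hg]
  have hwd : ∀ v v', d.ψ v = d.ψ v' → d.ψ (r • v) = d.ψ (r • v') := fun v v' h => by
    have h1 := hker (v - v') (by rw [map_sub, h, sub_self])
    rw [smul_sub, map_sub, sub_eq_zero] at h1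
    exact h1
  obtain ⟨w2, h2⟩ := d.surj ![0, 1]
  let y := d.ψ (r • w2)
  let up' : d.F → Γ (Additive ↥(VV G 2)) := fun t => ((d.ρ.symm (up t) : ↥d.L) : Γ _)
  have hup : ∀ t, d.ψ (up' t • w2 - w2) = ![t, 0] := fun t => by
    rw [map_sub, d.psi_up, h2]; ext i; fin_cases i <;> simp
  have hupr : ∀ t, d.ψ (r • (up' t • w2 - w2)) = ![t * y 1, 0] := fun t => by
    rw [smul_sub, hcom _ (d.ρ.symm (up t)).2, map_sub, d.psi_up]
    ext i; fin_cases i <;> simp [y]
  have hy : y 0 = 0 := by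
    have h3 : d.ψ (d.w0 • w2) = d.ψ (up' 1 • w2 - w2) := by rw [d.psi_w0, hup, h2]; simp
    have h4 := hwd _ _ h3
    rw [hupr, hcom _ d.w0_mem, d.psi_w0] at h4
    simpa using congrFun h4 1
  have hall : ∀ v, d.ψ (r • v) = y 1 • d.ψ v := fun v => by
    set v1 := up' (d.ψ v 0) • w2 - w2
    set v2 := d.w0⁻¹ • (up' (d.ψ v 1) • w2 - w2)
    have e : d.ψ v = d.ψ (v1 + v2) := by
      rw [map_add, hup, d.psi_w0_inv, hup]
      ext i; fin_cases i <;> simp
    have h5 : d.ψ (r • v2) = ![0, d.ψ v 1 * y 1] := by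
      rw [hcom _ (inv_mem d.w0_mem), d.psi_w0_inv, hupr]
      simp
    rw [hwd _ _ e, smul_add, map_add, h5, hupr]
    ext i; fin_cases i <;> simp [mul_comm]
  have hr2 : r * r = 1 := by
    have h := (rest_offender (a := a) c.hcomm c.S.mp).1.2 r hr
    rwa [pow_two] at h
  have h1 : y 1 * y 1 = 1 := by
    have h := hall (r • w2)
    rw [← mul_smul, hr2, one_smul, h2] at h
    have := congrFun h 1
    simpa [y] using this.symm
  have hy1 : y 1 = 1 := by
    rcases mul_self_eq_one_iff.1 h1 with h | h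
    · exact h
    · rwa [CharTwo.neg_eq] at h
  rw [hall, hy1, one_smul]

include c ha haT in
theorem split_thompson {j : G} (hj : j ∈ thompson 2 (T : Subgroup G)) :
    ∃ t : d.F, ∃ r ∈ restSup 2 (PP G 2) (bar 2 (T : Subgroup G)) a,
      act (VV G 2) j = ((d.ρ.symm (up t) : ↥d.L) : Γ _) * r := by
  have h : act (VV G 2) j ∈ restSup 2 (PP G 2) (bar 2 (T : Subgroup G)) a ⊔ a := by
    rw [← atomsSup_eq ha haT, ← c.Jbar]
    exact ⟨j, hj, rfl⟩
  have hn : a ≤ Subgroup.normalizer
      (restSup 2 (PP G 2) (bar 2 (T : Subgroup G)) a : Set (Γ (Additive ↥(VV G 2)))) := fun x hx =>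
    Subgroup.centralizer_le_normalizer _ (Subgroup.mem_centralizer_iff.2 fun r hr =>
      (d.restSup_commute hr (d.aL hx)).eq)
  rw [sup_comm, ← SetLike.mem_coe, Subgroup.coe_mul_of_left_le_normalizer_right a _ hn] at h
  obtain ⟨x, hx, r, hr, hxr⟩ := h
  obtain ⟨t, ht⟩ := d.up_of ⟨x, d.aL hx⟩ hx
  exact ⟨t, r, hr, by rw [← hxr, ← ht, d.ρ.symm_apply_apply]⟩

/-- The parameter of the action of an element of `J(T)`. -/
noncomputable def par (j : G) : d.F :=
  crd d (cjV j ((Additive.toMul (d.surj ![0, 1]).choose))) 0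

include c ha haT in
theorem crd_cj {j : G} (hj : j ∈ thompson 2 (T : Subgroup G)) (v : ↥(VV G 2)) :
    crd d (cjV j v) = ![crd d v 0 + par d j * crd d v 1, crd d v 1] := by
  obtain ⟨t, r, hr, he⟩ := split_thompson c ha haT d hj
  have hall : ∀ v, crd d (cjV j v) = ![crd d v 0 + t * crd d v 1, crd d v 1] := fun v => by
    rw [crd, ← smul_ofMul, he, mul_smul, d.psi_up, smul_rest c ha haT d hr]
    rfl
  have hp : par d j = t := by
    rw [par, hall, crd, ofMul_toMul, (d.surj ![0, 1]).choose_spec]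
    simp
  rw [hp, hall]

omit [Finite G] in
/-- The element of order three. -/
noncomputable def three : ↥d.L := d.ρ.symm (up 1 * lo 1)

theorem three_mulVec (v : Fin 2 → d.F) :
    (d.ρ (three d)).1.mulVec v = ![v 1, v 0 + v 1] := by
  rw [three, d.ρ.apply_symm_apply]
  ext i
  fin_cases i <;>
    simp [val_mul, up_coe, lo_coe, Matrix.mulVec, dotProduct, Fin.sum_univ_two, Matrix.mul_apply,
      CharTwo.add_self_eq_zero]

theorem three_cube : (three d) ^ 3 = 1 := by
  apply d.ρ.injective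
  rw [map_pow, map_one]
  refine Subtype.ext (Matrix.ext_of_mulVec_single fun i => ?_)
  simp only [Matrix.SpecialLinearGroup.coe_one, Matrix.one_mulVec, pow_succ, pow_zero, one_mul,
    Matrix.SpecialLinearGroup.coe_mul, ← Matrix.mulVec_mulVec]
  rw [three_mulVec, three_mulVec, three_mulVec]
  generalize (Pi.single i 1 : Fin 2 → d.F) = v
  ext k
  fin_cases k <;> simp [CharTwo.add_self_eq_zero, add_left_comm, ← add_assoc] <;> ring_nf <;>
    simp [CharTwo.two_eq_zero]

include hE in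
theorem exists_three : ∃ e ∈ E, act (VV G 2) e = ((three d : ↥d.L) : Γ _) := by
  have h : ((three d : ↥d.L) : Γ _) ∈ bar 2 E := by
    rw [hE.bar_eq]
    refine CfsgLib.Baumann.mem_pResidualOf (three d).2 ?_
    exact Nat.Coprime.coprime_dvd_left (orderOf_dvd_of_pow_eq_one (n := 3)
      (by rw [← Subgroup.coe_pow, three_cube]; rfl)) (by norm_num)
  obtain ⟨e, he, h'⟩ := h
  exact ⟨e, he, h'⟩

include hE c in
theorem mod_le_VV : CfsgLib.Baumann.x1 2 E ≤ VV G 2 := CfsgLib.Baumann.x1_le_vG hE.block c.S.hG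

include hE c in
theorem exists_mod (x : Fin 2 → d.F) :
    ∃ u : ↥(VV G 2), (u : G) ∈ CfsgLib.Baumann.x1 2 E ∧ crd d u = x := by
  obtain ⟨e, he, he'⟩ := exists_three d hE
  obtain ⟨w, hw⟩ := d.surj ![x 1, x 0 + x 1]
  refine ⟨cjV e w.toMul * (w.toMul)⁻¹, ?_, ?_⟩
  · rw [← commutator_VV_eq c.S.hG hE.block]
    exact Subgroup.commutator_mem_commutator he (w.toMul).2
  · rw [crd_mul, crd_inv, crd_cj_of_mem d he', three_mulVec,
      show crd d w.toMul = _ from hw, CharTwo.neg_eq]
    ext i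
    fin_cases i <;> simp [CharTwo.add_self_eq_zero, add_left_comm, add_comm, ← add_assoc] <;>
      ring_nf <;> simp [CharTwo.two_eq_zero]

omit [Finite G] in
include hE in
theorem mem_centralizer_block {v : ↥(VV G 2)} (hv : crd d v = 0) :
    (v : G) ∈ Subgroup.centralizer (E : Set G) := by
  refine Subgroup.mem_centralizer_iff.2 fun e he => ?_
  have h : act (VV G 2) e ∈ d.L :=
    CfsgLib.Baumann.pResidualOf_le _ (hE.bar_eq.le ⟨e, he, rfl⟩)
  exact (act_fix_iff (VV G 2) e (Additive.ofMul v)).1 ((d.ker _).1 hv _ h)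

include c ha haT hE in
/-- An element of `J(T)` centralizes the module exactly if its parameter vanishes. -/
theorem centralizes_mod_iff {j : G} (hj : j ∈ thompson 2 (T : Subgroup G)) :
    j ∈ Subgroup.centralizer (CfsgLib.Baumann.x1 2 E : Set G) ↔ par d j = 0 := by
  constructor
  · intro h
    obtain ⟨u, hu, hx⟩ := exists_mod c d hE ![0, 1]
    have h1 : cjV j u = u := Subtype.ext
      (mul_inv_eq_iff_eq_mul.2 (Subgroup.mem_centralizer_iff.1 h _ hu).symm)
    have h2 := crd_cj c ha haT d hj u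
    rw [h1, hx] at h2
    simpa using (congrFun h2 0).symm
  · intro h
    have hjE : j ∈ Subgroup.normalizer (E : Set G) :=
      (CfsgLib.Baumann.thompson_le_baumann _).trans
        (CfsgLib.Baumann.baumann_le_normalizer_of_block hE.block.2.1) hj
    refine CfsgLib.Baumann.centralizes_of_triv hE.block hjE fun u hu => ⟨?_, ?_⟩
    · exact Subgroup.mul_mem _ (CfsgLib.Large.conj_mem_of_normalizer
        (CfsgLib.Baumann.le_normalizer_x1 E hjE) hu) (Subgroup.inv_mem _ hu)
    · have hu' := mod_le_VV c d hE hu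
      refine mem_centralizer_block d hE (v := cjV j ⟨u, hu'⟩ * ⟨u, hu'⟩⁻¹) ?_
      rw [crd_mul, crd_inv, crd_cj c ha haT d hj, h]
      ext i; fin_cases i <;> simp

include c ha haT hE in
/-- The fixed points of `J(T)` in the module. -/
theorem mod_fixed_iff {u : ↥(VV G 2)} (hu : (u : G) ∈ CfsgLib.Baumann.x1 2 E) :
    (u : G) ∈ Subgroup.centralizer (thompson 2 (T : Subgroup G) : Set G) ↔ crd d u 1 = 0 := by
  have hJ := c.Jbar
  constructor
  · intro h
    obtain ⟨j, hj, hj'⟩ : ((d.ρ.symm (up 1) : ↥d.L) : Γ _) ∈ bar 2 (thompson 2 (T : Subgroup G)) :=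
      hJ.ge (le_atomsSup ha haT (d.up_mem 1))
    have h1 : cjV j u = u := Subtype.ext
      (mul_inv_eq_iff_eq_mul.2 (Subgroup.mem_centralizer_iff.1 h j hj))
    have h2 := crd_cj_of_mem d hj' u
    rw [h1, d.ρ.apply_symm_apply, up_mulVec] at h2
    simpa using (congrFun h2 0).symm
  · intro h
    refine Subgroup.mem_centralizer_iff.2 fun j hj => ?_
    obtain ⟨t, r, hr, he⟩ := split_thompson c ha haT d hj
    obtain ⟨j', hj', hjr⟩ := hJ.ge (restSup_le hr)
    have hp : par d j' = 0 := by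
      obtain ⟨w, hw⟩ := d.surj ![0, 1]
      have h2 := crd_cj c ha haT d hj' w.toMul
      rw [crd, ← smul_ofMul, hjr, ofMul_toMul, smul_rest c ha haT d hr, crd, ofMul_toMul, hw] at h2
      simpa using (congrFun h2 0).symm
    have h1 : r • Additive.ofMul u = Additive.ofMul u := by
      rw [← hjr, act_fix_iff]
      exact (Subgroup.mem_centralizer_iff.1
        ((centralizes_mod_iff c ha haT d hE hj').2 hp) _ hu).symm
    refine (act_fix_iff (VV G 2) j (Additive.ofMul u)).1 ?_
    rw [he, mul_smul, h1]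
    exact (d.mem_fix_iff c.S.mp ha _).2 h _ (d.up_mem t)

include c ha haT hE in
/-- An element of `J(T)` centralizing the module moves an element of order three by the module. -/
theorem twist {j : G} (hj : j ∈ thompson 2 (T : Subgroup G))
    (hjU : j ∈ Subgroup.centralizer (CfsgLib.Baumann.x1 2 E : Set G)) {e : G} (he : e ∈ E)
    (he' : act (VV G 2) e = ((three d : ↥d.L) : Γ _)) :
    j * e * j⁻¹ * e⁻¹ ∈ CfsgLib.Baumann.x1 2 E := by
  have hjE : j ∈ Subgroup.normalizer (E : Set G) :=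
    (CfsgLib.Baumann.thompson_le_baumann _).trans
      (CfsgLib.Baumann.baumann_le_normalizer_of_block hE.block.2.1) hj
  rw [← hE.core_two rfl, ← inf_centralizer_x1 hE.block]
  refine ⟨Subgroup.mul_mem _ (CfsgLib.Large.conj_mem_of_normalizer hjE he) (Subgroup.inv_mem _ he), ?_⟩
  have hn : e ∈ Subgroup.normalizer (CfsgLib.Baumann.x1 2 E : Set G) :=
    CfsgLib.Baumann.block_le_normalizer_x1 he
  have h1 := CfsgLib.Baumann.conj_mem_centralizer_x1 hn (inv_mem hjU)
  rw [show j * e * j⁻¹ * e⁻¹ = j * (e * j⁻¹ * e⁻¹) by group]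
  exact mul_mem hjU h1

include c ha haT hE in
theorem no_component {e : G} (he' : act (VV G 2) e = ((three d : ↥d.L) : Γ _))
    {x : G} (hx : x ∈ thompson 2 (T : Subgroup G)) {u : G} (hu : u ∈ CfsgLib.Baumann.x1 2 E)
    (hcomm : e * (x * u * x⁻¹ * u⁻¹) = (x * u * x⁻¹ * u⁻¹) * e) :
    u ∈ Subgroup.centralizer (thompson 2 (T : Subgroup G) : Set G) ∨
      x ∈ Subgroup.centralizer (CfsgLib.Baumann.x1 2 E : Set G) := by
  have huV := mod_le_VV c d hE hu
  set w : ↥(VV G 2) := cjV x ⟨u, huV⟩ * ⟨u, huV⟩⁻¹ with hw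
  have h1 : cjV e w = w := Subtype.ext (mul_inv_eq_iff_eq_mul.2 hcomm)
  have h2 := crd_cj_of_mem d he' w
  rw [h1, three_mulVec] at h2
  have h3 : crd d w = ![par d x * crd d ⟨u, huV⟩ 1, 0] := by
    rw [hw, crd_mul, crd_inv, crd_cj c ha haT d hx]
    ext i; fin_cases i <;> simp
  rw [h3] at h2
  have h4 := congrFun h2 0
  simp at h4
  rcases h4 with h4 | h4
  · exact Or.inr ((centralizes_mod_iff c ha haT d hE hx).2 h4)
  · exact Or.inl ((mod_fixed_iff c ha haT d hE (u := ⟨u, huV⟩) hu).2 h4)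

include c ha haT hE in
theorem card_le :
    (Subgroup.centralizer (CfsgLib.Baumann.x1 2 E : Set G)).relIndex (thompson 2 (T : Subgroup G)) ≤
      (Subgroup.centralizer (thompson 2 (T : Subgroup G) : Set G)).relIndex
        (CfsgLib.Baumann.x1 2 E) := by
  set J := thompson 2 (T : Subgroup G)
  set U := CfsgLib.Baumann.x1 2 E
  obtain ⟨w, hw, hwx⟩ := exists_mod c d hE ![0, 1]
  let η : ↥J →* Multiplicative d.F := MonoidHom.mk' (fun j => Multiplicative.ofAdd (par d (j : G)))
    fun j k => by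
      rw [← ofAdd_add]
      congr 1
      have h1 := crd_cj c ha haT d (mul_mem j.2 k.2) w
      have e : cjV ((j : G) * k) w = cjV (j : G) (cjV (k : G) w) := Subtype.ext (by simp [cjV]; group)
      rw [e, crd_cj c ha haT d j.2, crd_cj c ha haT d k.2, hwx] at h1
      have := congrFun h1 0
      simp at this
      rw [Subgroup.coe_mul, ← this, add_comm]
  let μ : ↥U →* Multiplicative d.F := MonoidHom.mk'
    (fun u => Multiplicative.ofAdd (crd d ⟨(u : G), mod_le_VV c d hE u.2⟩ 1))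
    fun u v => by
      rw [← ofAdd_add]
      congr 1
      exact congrFun (crd_mul d ⟨(u : G), mod_le_VV c d hE u.2⟩ ⟨(v : G), mod_le_VV c d hE v.2⟩) 1
  have hη : η.ker = (Subgroup.centralizer (U : Set G)).subgroupOf J := by
    ext j
    rw [MonoidHom.mem_ker, Subgroup.mem_subgroupOf, centralizes_mod_iff c ha haT d hE j.2]
    exact ofAdd_eq_one
  have hμ : μ.ker = (Subgroup.centralizer (J : Set G)).subgroupOf U := by
    ext u
    rw [MonoidHom.mem_ker, Subgroup.mem_subgroupOf,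
      mod_fixed_iff c ha haT d hE (u := ⟨(u : G), mod_le_VV c d hE u.2⟩) u.2]
    exact ofAdd_eq_one
  have hs : Function.Surjective μ := fun x => by
    obtain ⟨u, hu, hux⟩ := exists_mod c d hE ![0, x.toAdd]
    exact ⟨⟨u, hu⟩, Multiplicative.toAdd.injective (by simpa [μ] using congrFun hux 1)⟩
  rw [Subgroup.relIndex, Subgroup.relIndex, ← hη, ← hμ, Subgroup.index_ker, Subgroup.index_ker,
    MonoidHom.range_eq_top.2 hs, Subgroup.card_top]
  exact Subgroup.card_le_card_group η.range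

end CfsgLib.SylowAut74
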