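import Mathlib

/-!
Atoms of a group `S` relative to a characteristic subgroup `J`: the commuting graph of the atoms
has the property that two atoms with a common neighbour commute and have the same neighbours.
Hence an automorphism of odd order cannot move a class of pairwise commuting conjugate atoms to a
class not commuting with it.
-/

set_option autoImplicit false

namespace CfsgLib.SylowAut74

open Subgroup

variable {S : Type*} [Group S]

/-- An atom relative to `J`. -/
structure Atom (J U : Subgroup S) : Prop where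
  le : U ≤ J
  conjJ : ∀ j ∈ J, ∀ u ∈ U, j * u * j⁻¹ ∈ U
  sq1 : ∀ u ∈ U, u * u = 1
  comm : ∀ u ∈ U, ∀ v ∈ U, u * v = v * u
  fix : ∀ x ∈ J, x ∉ centralizer (U : Set S) → ∀ u ∈ U, x * u = u * x →
    u ∈ centralizer (J : Set S)
  card : (centralizer (U : Set S)).relIndex J ≤ (centralizer (J : Set S)).relIndex U
  sq : ∀ c ∈ J, c ∈ centralizer (U : Set S) → ∀ x ∈ J, ∀ u ∈ U, x * u * x⁻¹ * u⁻¹ = c * c →
    u ∈ centralizer (J : Set S) ∨ x ∈ centralizer (U : Set S)
  com : ∀ c ∈ J, c ∈ centralizer (U : Set S) → ∀ c' ∈ J, c' ∈ centralizer (U : Set S) →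
    ∀ x ∈ J, ∀ u ∈ U, x * u * x⁻¹ * u⁻¹ = c * c' * c⁻¹ * c'⁻¹ →
    u ∈ centralizer (J : Set S) ∨ x ∈ centralizer (U : Set S)

theorem map_centralizer_equiv (e : S ≃* S) (U : Subgroup S) :
    (centralizer (U : Set S)).map e.toMonoidHom = centralizer (U.map e.toMonoidHom : Set S) := by
  ext x
  constructor
  · rintro ⟨y, hy, rfl⟩
    refine mem_centralizer_iff.2 ?_
    rintro _ ⟨u, hu, rfl⟩
    have h := congrArg e (mem_centralizer_iff.1 hy u hu)
    simpa using h
  · intro hx
    refine ⟨e.symm x, mem_centralizer_iff.2 fun u hu => e.injective ?_, by simp⟩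
    have h := mem_centralizer_iff.1 hx (e u) ⟨u, hu, rfl⟩
    simpa using h

theorem Atom.map {J U : Subgroup S} (h : Atom J U) (e : S ≃* S)
    (hJ : J.map e.toMonoidHom = J) : Atom J (U.map e.toMonoidHom) := by
  have hC := map_centralizer_equiv e U
  have hCJ := map_centralizer_equiv e J
  rw [hJ] at hCJ
  have inJ : ∀ x ∈ J, ∃ y ∈ J, e y = x := fun x hx => by
    rw [← hJ] at hx
    exact hx
  have inU : ∀ x ∈ centralizer (U.map e.toMonoidHom : Set S),
      ∃ y ∈ centralizer (U : Set S), e y = x := fun x hx => by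
    rw [← hC] at hx
    exact hx
  have outU : ∀ y ∈ centralizer (U : Set S), e y ∈ centralizer (U.map e.toMonoidHom : Set S) :=
    fun y hy => hC ▸ ⟨y, hy, rfl⟩
  have outJ : ∀ y ∈ centralizer (J : Set S), e y ∈ centralizer (J : Set S) :=
    fun y hy => hCJ ▸ ⟨y, hy, rfl⟩
  refine ⟨?_, ?_, ?_, ?_, ?_, ?_, ?_, ?_⟩
  · exact (Subgroup.map_mono h.le).trans hJ.le
  · rintro j hj _ ⟨u, hu, rfl⟩
    obtain ⟨j', hj', rfl⟩ := inJ j hj
    exact ⟨j' * u * j'⁻¹, h.conjJ j' hj' u hu, by simp⟩
  · rintro _ ⟨u, hu, rfl⟩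
    simp [← map_mul, h.sq1 u hu]
  · rintro _ ⟨u, hu, rfl⟩ _ ⟨v, hv, rfl⟩
    simp [← map_mul, h.comm u hu v hv]
  · rintro x hx hxU _ ⟨u, hu, rfl⟩ he
    obtain ⟨x', hx', rfl⟩ := inJ x hx
    exact outJ u (h.fix x' hx' (fun hc => hxU (outU x' hc)) u hu (e.injective (by simpa using he)))
  · calc (centralizer (U.map e.toMonoidHom : Set S)).relIndex J
        = ((centralizer (U : Set S)).map e.toMonoidHom).relIndex (J.map e.toMonoidHom) := by
          rw [hC, hJ]
      _ = (centralizer (U : Set S)).relIndex J :=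
          Subgroup.relIndex_map_map_of_injective _ _ e.injective
      _ ≤ (centralizer (J : Set S)).relIndex U := h.card
      _ = ((centralizer (J : Set S)).map e.toMonoidHom).relIndex (U.map e.toMonoidHom) :=
          (Subgroup.relIndex_map_map_of_injective _ _ e.injective).symm
      _ = _ := by rw [hCJ]
  · rintro c hc hcU x hx _ ⟨u, hu, rfl⟩ he
    obtain ⟨c', hc', rfl⟩ := inU c hcU
    obtain ⟨c₁, hc₁, e₁⟩ := inJ (e c') hc
    obtain rfl := e.injective e₁
    obtain ⟨x', hx', rfl⟩ := inJ x hx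
    rcases h.sq c₁ hc₁ hc' x' hx' u hu (e.injective (by simpa using he)) with h1 | h1
    · exact Or.inl (outJ u h1)
    · exact Or.inr (outU x' h1)
  · rintro c hc hcU d hd hdU x hx _ ⟨u, hu, rfl⟩ he
    obtain ⟨c', hc', rfl⟩ := inU c hcU
    obtain ⟨c₁, hc₁, e₁⟩ := inJ (e c') hc
    obtain rfl := e.injective e₁
    obtain ⟨d', hd', rfl⟩ := inU d hdU
    obtain ⟨d₁, hd₁, e₂⟩ := inJ (e d') hd
    obtain rfl := e.injective e₂
    obtain ⟨x', hx', rfl⟩ := inJ x hx
    rcases h.com c₁ hc₁ hc' d₁ hd₁ hd' x' hx' u hu (e.injective (by simpa using he)) with h1 | h1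
    · exact Or.inl (outJ u h1)
    · exact Or.inr (outU x' h1)

/-- Two subgroups are adjacent if they do not commute. -/
def Adj (U X : Subgroup S) : Prop := ¬ X ≤ centralizer (U : Set S)

theorem Adj.symm {U X : Subgroup S} (h : Adj U X) : Adj X U := fun hc => h (le_centralizer_iff.1 hc)

theorem Adj.map {U X : Subgroup S} (h : Adj U X) (e : S ≃* S) :
    Adj (U.map e.toMonoidHom) (X.map e.toMonoidHom) := fun hc => h fun x hx => by
  obtain ⟨y, hy, he⟩ := (map_centralizer_equiv e U).ge (hc ⟨x, hx, rfl⟩)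
  exact e.injective he ▸ hy

variable [Finite S] {J U X Y W : Subgroup S}

theorem relIndex_le_right {H K L : Subgroup S} (h : K ≤ L) : H.relIndex K ≤ H.relIndex L :=
  Subgroup.relIndex_le_of_le_right h Subgroup.index_ne_zero_of_finite

omit [Finite S] in
theorem relIndex_centralizer_eq (hU : Atom J U) (hX : Atom J X) (h : Adj U X) :
    (centralizer (J : Set S)).relIndex U = (centralizer (X : Set S)).relIndex U := by
  obtain ⟨x, hx, hxU⟩ := SetLike.not_le_iff_exists.1 h
  rw [← inf_relIndex_right, ← inf_relIndex_right (centralizer (X : Set S))]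
  congr 1
  refine le_antisymm (inf_le_inf_right _ (centralizer_le (SetLike.coe_subset_coe.2 hX.le))) ?_
  intro u hu
  exact ⟨hU.fix x (hX.le hx) hxU u hu.2 (mem_centralizer_iff.1 hu.1 x hx), hu.2⟩

/-- An adjacent atom covers `J` modulo the centralizer. -/
theorem full (hU : Atom J U) (hX : Atom J X) (h : Adj U X) {j : S} (hj : j ∈ J) :
    ∃ x ∈ X, x⁻¹ * j ∈ centralizer (U : Set S) := by
  have h1 := relIndex_centralizer_eq hU hX h
  have h2 := relIndex_centralizer_eq hX hU h.symm
  have e : (centralizer (U : Set S)).relIndex X = (centralizer (U : Set S)).relIndex J := by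
    refine le_antisymm (relIndex_le_right hX.le) ?_
    calc (centralizer (U : Set S)).relIndex J ≤ (centralizer (J : Set S)).relIndex U := hU.card
      _ = (centralizer (X : Set S)).relIndex U := h1
      _ ≤ (centralizer (X : Set S)).relIndex J := relIndex_le_right hU.le
      _ ≤ (centralizer (J : Set S)).relIndex X := hX.card
      _ = _ := h2
  let f := Subgroup.quotientSubgroupOfEmbeddingOfLE (centralizer (U : Set S)) hX.le
  have hb : Function.Bijective f :=
    (Nat.bijective_iff_injective_and_card f).2 ⟨f.injective, e⟩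
  obtain ⟨q, hq⟩ := hb.2 (QuotientGroup.mk ⟨j, hj⟩)
  obtain ⟨x, rfl⟩ := QuotientGroup.mk_surjective q
  refine ⟨x, x.2, ?_⟩
  have h3 : QuotientGroup.mk (Subgroup.inclusion hX.le x) =
      (QuotientGroup.mk ⟨j, hj⟩ : ↥J ⧸ (centralizer (U : Set S)).subgroupOf J) := hq
  exact Subgroup.mem_subgroupOf.1 (QuotientGroup.eq.1 h3)

/-- `J` is the product of two adjacent atoms and the centralizer of both. -/
theorem decomp (hU : Atom J U) (hX : Atom J X) (h : Adj U X) {j : S} (hj : j ∈ J) :
    ∃ x ∈ X, ∃ u ∈ U, ∃ c ∈ J, c ∈ centralizer (U : Set S) ∧ c ∈ centralizer (X : Set S) ∧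
      j = x * u * c := by
  obtain ⟨x, hx, hc⟩ := full hU hX h hj
  have hcJ : x⁻¹ * j ∈ J := mul_mem (inv_mem (hX.le hx)) hj
  obtain ⟨u, hu, hd⟩ := full hX hU h.symm hcJ
  have huC : u ∈ centralizer (U : Set S) := mem_centralizer_iff.2 fun v hv => hU.comm v hv u hu
  exact ⟨x, hx, u, hu, u⁻¹ * (x⁻¹ * j), mul_mem (inv_mem (hU.le hu)) hcJ,
    mul_mem (inv_mem huC) hc, hd, by group⟩

/-- An element of an atom, seen from two adjacent atoms, has no component in the first. -/
theorem component (hU : Atom J U) (hX : Atom J X) (h : Adj U X) (hY : Atom J Y) {y : S}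
    (hy : y ∈ Y) (hyU : y ∉ centralizer (U : Set S)) :
    ∃ x ∈ X, x ∉ centralizer (U : Set S) ∧ ∃ c ∈ J, c ∈ centralizer (U : Set S) ∧
      c ∈ centralizer (X : Set S) ∧ y = x * c := by
  obtain ⟨x, hx, u, hu, c, hc, hcU, hcX, rfl⟩ := decomp hU hX h (hY.le hy)
  have hxU : x ∉ centralizer (U : Set S) := fun hxU => hyU
    (mul_mem (mul_mem hxU (mem_centralizer_iff.2 fun v hv => hU.comm v hv u hu)) hcU)
  have hcu : u * c = c * u := mem_centralizer_iff.1 hcU u hu
  have hcx : x * c = c * x := mem_centralizer_iff.1 hcX x hx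
  have hxi : x⁻¹ = x := inv_eq_of_mul_eq_one_right (hX.sq1 x hx)
  have hui : u⁻¹ = u := inv_eq_of_mul_eq_one_right (hU.sq1 u hu)
  have key : x * u * x⁻¹ * u⁻¹ = c⁻¹ * c⁻¹ := by
    have h1 := hY.sq1 _ hy
    have hc2 : Commute (c * c) (x * u) :=
      ((Commute.mul_left hcx.symm hcx.symm)).mul_right (Commute.mul_left hcu.symm hcu.symm)
    have e2 : (x * u * c) * (x * u * c) = x * u * x * u * (c * c) := by
      have hc1 : Commute c (x * u) := (show Commute c x from hcx.symm).mul_right hcu.symm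
      calc (x * u * c) * (x * u * c) = x * u * (c * (x * u)) * c := by group
        _ = x * u * (x * u * c) * c := by rw [hc1.eq]
        _ = _ := by group
    rw [h1] at e2
    rw [hxi, hui, eq_mul_inv_iff_mul_eq, eq_inv_iff_mul_eq_one, e2]
    group
  rcases hU.sq c⁻¹ (inv_mem hc) (inv_mem hcU) x (hX.le hx) u hu key with h1 | h1
  · refine ⟨x, hx, hxU, u * c, mul_mem (hU.le hu) hc, ?_, ?_, mul_assoc _ _ _⟩
    · exact mul_mem (mem_centralizer_iff.2 fun v hv => hU.comm v hv u hu) hcU
    · exact mul_mem (centralizer_le (SetLike.coe_subset_coe.2 hX.le) h1) hcX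
  · exact absurd h1 hxU

/-- Atoms with a common neighbour commute. -/
theorem commute_of_common (hU : Atom J U) (hX : Atom J X) (hY : Atom J Y) (hUX : Adj U X)
    (hUY : Adj U Y) : ¬ Adj X Y := by
  refine not_not.2 fun y hy => ?_
  by_cases hyU : y ∈ centralizer (U : Set S)
  · obtain ⟨u, hu, huY⟩ := SetLike.not_le_iff_exists.1 hUY.symm
    exact centralizer_le (SetLike.coe_subset_coe.2 hX.le)
      (hY.fix u (hU.le hu) huY y hy (mem_centralizer_iff.1 hyU u hu))
  obtain ⟨x, hx, -, c, -, -, hcX, rfl⟩ := component hU hX hUX hY hy hyU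
  exact mul_mem (mem_centralizer_iff.2 fun v hv => hX.comm v hv x hx) hcX

/-- Atoms with a common neighbour have the same neighbours. -/
theorem adj_of_common (hU : Atom J U) (hX : Atom J X) (hY : Atom J Y) (hW : Atom J W)
    (hUX : Adj U X) (hUY : Adj U Y) (hWX : Adj W X) : Adj W Y := by
  intro hYW
  obtain ⟨y, hy, hyU⟩ := SetLike.not_le_iff_exists.1 hUY
  obtain ⟨x, hx, hxU, c, hc, hcU, hcX, rfl⟩ := component hU hX hUX hY hy hyU
  have hWU : W ≤ centralizer (U : Set S) := not_not.1 (commute_of_common hX hU hW hUX.symm hWX.symm)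
  refine hWX.symm fun w hw => ?_
  obtain ⟨u, hu, hd⟩ := full hX hU hUX.symm (hW.le hw)
  set d := u⁻¹ * w with hdd
  have huC : u ∈ centralizer (U : Set S) := mem_centralizer_iff.2 fun v hv => hU.comm v hv u hu
  have hdU : d ∈ centralizer (U : Set S) := mul_mem (inv_mem huC) (hWU hw)
  have hw' : w = u * d := by rw [hdd, mul_inv_cancel_left]
  suffices key : x * u * x⁻¹ * u⁻¹ = d * c * d⁻¹ * c⁻¹ by
    rcases hU.com d (mul_mem (inv_mem (hU.le hu)) (hW.le hw)) hdU c hc hcU x (hX.le hx) u hu key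
      with h1 | h1
    · rw [hw']
      exact mul_mem (centralizer_le (SetLike.coe_subset_coe.2 hX.le) h1) hd
    · exact absurd h1 hxU
  have h1 : (u * d) * (x * c) = (x * c) * (u * d) := by
    rw [← hw']
    exact (mem_centralizer_iff.1 (hYW hy) w hw)
  have e1 : (u * d) * (x * c) = u * x * (d * c) := by
    rw [show (u * d) * (x * c) = u * (d * x) * c by group, ← mem_centralizer_iff.1 hd x hx]
    group
  have e2 : (x * c) * (u * d) = x * u * (c * d) := by
    rw [show (x * c) * (u * d) = x * (c * u) * d by group, ← mem_centralizer_iff.1 hcU u hu]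
    group
  rw [e1, e2] at h1
  have hxi : x⁻¹ = x := inv_eq_of_mul_eq_one_right (hX.sq1 x hx)
  have hui : u⁻¹ = u := inv_eq_of_mul_eq_one_right (hU.sq1 u hu)
  -- `[x, u]` commutes with `c` and `d`
  have h2 : (u * x)⁻¹ * (x * u) = d * c * (c * d)⁻¹ := by
    rw [inv_mul_eq_iff_eq_mul, ← mul_assoc, h1]
    group
  rw [mul_inv_rev, hxi, hui] at h2
  rw [hxi, hui, mul_assoc (x * u), h2, mul_inv_rev]
  group

/-- An automorphism of odd order maps a class of pairwise commuting conjugate atoms into its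
centralizer. -/
theorem commute_image {U₀ : Subgroup S} (hA : Atom J U₀)
    (hJ : ∀ e : MulAut S, J.map e.toMonoidHom = J)
    (hcomm : ∀ s t : S, ¬ Adj (U₀.map (MulAut.conj s).toMonoidHom) (U₀.map (MulAut.conj t).toMonoidHom))
    (f : MulAut S) (hf : Odd (orderOf f)) (s t : S) :
    (U₀.map (MulAut.conj t).toMonoidHom).map f.toMonoidHom ≤
      centralizer (U₀.map (MulAut.conj s).toMonoidHom : Set S) := by
  by_contra hadj
  change Adj _ _ at hadj
  let lev : ℕ → S → Subgroup S := fun i q => U₀.map (f ^ i * MulAut.conj q : MulAut S).toMonoidHom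
  have hat : ∀ i q, Atom J (lev i q) := fun i q => hA.map _ (hJ _)
  let nb : Subgroup S → Set (Subgroup S) := fun v => {w | Atom J w ∧ Adj v w}
  have hlev : ∀ i q, ∃ q', Adj (lev i q') (lev (i + 1) q) := by
    intro i q
    refine ⟨f (q * t⁻¹) * s, ?_⟩
    have h1 := hadj.map (f ^ i * MulAut.conj (f (q * t⁻¹)) : MulAut S)
    rw [Subgroup.map_map, Subgroup.map_map, Subgroup.map_map] at h1
    convert h1 using 2
    · ext z
      simp [MulAut.mul_apply]
    · ext z
      simp [MulAut.mul_apply, pow_succ]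
      group
  have main : ∀ i, ∀ q, ∃ q', (Even i → nb (lev i q) = nb (lev 0 q')) ∧
      (Odd i → Adj (lev 0 q') (lev i q)) := by
    intro i
    induction i with
    | zero => exact fun q => ⟨q, fun _ => rfl, fun h => by simp at h⟩
    | succ i ih =>
      intro q
      obtain ⟨q₁, h1⟩ := hlev i q
      obtain ⟨q₂, he, ho⟩ := ih q₁
      refine ⟨q₂, fun hi => ?_, fun hi => ?_⟩
      · have hodd : Odd i := Nat.even_add_one.1 hi |> Nat.not_even_iff_odd.1
        ext w
        refine ⟨fun hw => ⟨hw.1, ?_⟩, fun hw => ⟨hw.1, ?_⟩⟩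
        · exact (adj_of_common (hat i q₁) (hat (i + 1) q) (hat 0 q₂) hw.1 h1 (ho hodd).symm hw.2.symm).symm
        · exact (adj_of_common (hat i q₁) (hat 0 q₂) (hat (i + 1) q) hw.1 (ho hodd).symm h1 hw.2.symm).symm
      · have heven : Even i := by rwa [Nat.odd_add_one, Nat.not_odd_iff_even] at hi
        exact ((he heven).le (show lev (i + 1) q ∈ nb (lev i q₁) from ⟨hat _ _, h1⟩)).2
  obtain ⟨q', -, ho⟩ := main (orderOf f) 1
  have e : lev (orderOf f) 1 = U₀.map (MulAut.conj (1 : S)).toMonoidHom := by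
    simp only [lev, pow_orderOf_eq_one, one_mul]
  have e' : lev 0 q' = U₀.map (MulAut.conj q').toMonoidHom := by
    simp only [lev, pow_zero, one_mul]
  exact hcomm q' 1 (e ▸ e' ▸ ho hf)

end CfsgLib.SylowAut74
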