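import Cfsg.Agent.Lib.SylowAut74.Block
import Cfsg.Agent.Lib.LocalEven.LocalCStar.Main
import Cfsg.Agent.Lib.LocalEven.LocalCStar.DegreeBasic

/-!
In a `2`-minimal group of characteristic `2`, a group of automorphisms of odd order of a Sylow
2-subgroup leaves a nontrivial normal subgroup invariant.
-/

set_option autoImplicit false

namespace CfsgLib.SylowAut74

open CfsgLib.LocalEven.PGV CfsgLib.LocalEven.MinPar CfsgLib.LocalEven.OffenderSL2
open CfsgLib.LocalEven.CStarMin CfsgLib.LocalEven.Glue CfsgLib.PLocal Cfsg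
open scoped IsMulCommutative

universe u

variable {G : Type u} [Group G] [Finite G]

omit [Finite G] in
theorem mem_centralizer_subgroupOf {T U : Subgroup G} (hU : U ≤ T) {x : ↥T} :
    x ∈ Subgroup.centralizer (U.subgroupOf T : Set ↥T) ↔ (x : G) ∈ Subgroup.centralizer (U : Set G) :=
  ⟨fun h => Subgroup.mem_centralizer_iff.2 fun u hu =>
      congrArg Subtype.val (Subgroup.mem_centralizer_iff.1 h ⟨u, hU hu⟩ hu),
    fun h => Subgroup.mem_centralizer_iff.2 fun u hu =>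
      Subtype.ext (Subgroup.mem_centralizer_iff.1 h _ hu)⟩

omit [Finite G] in
theorem centralizer_subgroupOf {T U : Subgroup G} (hU : U ≤ T) :
    Subgroup.centralizer (U.subgroupOf T : Set ↥T) =
      (Subgroup.centralizer (U : Set G)).subgroupOf T :=
  Subgroup.ext fun _ => mem_centralizer_subgroupOf hU

/-- The data of an atom in a Sylow 2-subgroup. -/
theorem exists_atom (hmin : IsPMinimal 2 G)
    (hG : Subgroup.centralizer (pCore 2 G : Set G) ≤ pCore 2 G) (T : Sylow 2 G)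
    (hchar : ∀ C : Subgroup G, C ≤ baumannSubgroupOf 2 (T : Subgroup G) → C ≠ ⊥ →
      (C.subgroupOf (baumannSubgroupOf 2 (T : Subgroup G))).Characteristic → ¬ C.Normal)
    (hz : ¬ (omegaOneCenter 2 (T : Subgroup G)).Normal) :
    ∃ E U : Subgroup G, U ≤ (T : Subgroup G) ∧ U ≠ ⊥ ∧ U ≤ VV G 2 ∧ E ⊔ (T : Subgroup G) = ⊤ ∧
      (∀ y ∈ Subgroup.centralizer (U : Set G), ∀ e ∈ E, e * y * e⁻¹ * y⁻¹ ∈ U) ∧
      Atom ((thompson 2 (T : Subgroup G)).subgroupOf (T : Subgroup G))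
        (U.subgroupOf (T : Subgroup G)) := by
  obtain ⟨M, S⟩ := exists_gsetup hmin hG T hchar hz
  obtain ⟨A₀, hA₀⟩ := CfsgLib.LocalEven.CStarMin.exists_off S.red
  obtain ⟨r, Ei, hE', hF, hd⟩ := exists_decomp' S.mp hA₀
  obtain ⟨hcm, hdat, hkind⟩ := exists_model S.mp hE' hF hd ⟨A₀, hA₀⟩
  have c := (Model.mk hE' hF hd hcm hdat hkind).ctx S
  obtain ⟨A, hA, hAT, hA1⟩ := exists_max_moving S.red
  obtain ⟨a, haA, ha⟩ := exists_off_le (Subgroup.map_le_range _ A) (elemAb_map _ hA.elem) hA1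
    (card_le_of_max hA)
  have haT : a ≤ bar 2 (T : Subgroup G) := haA.trans (Subgroup.map_mono hAT)
  obtain ⟨d⟩ := c.hdat a ha haT
  obtain ⟨E, hE⟩ := c.exists_block ha haT d
  set U := CfsgLib.Baumann.x1 2 E
  set J := thompson 2 (T : Subgroup G)
  have hUV : U ≤ VV G 2 := mod_le_VV c d hE
  have hVJ : VV G 2 ≤ J := by
    obtain ⟨B, hB⟩ := exists_isMaxElemIn 2 (T : Subgroup G)
    exact le_sup_right.trans (S.star_max (max_top hB)).2.le_thompson
  have hUJ : U ≤ J := hUV.trans hVJ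
  have hJT : J ≤ (T : Subgroup G) := thompson_le 2 _
  have hUT : U ≤ (T : Subgroup G) := hUJ.trans hJT
  have hJE : J ≤ Subgroup.normalizer (E : Set G) :=
    (CfsgLib.Baumann.thompson_le_baumann _).trans
      (CfsgLib.Baumann.baumann_le_normalizer_of_block hE.block.2.1)
  have hel := CfsgLib.Baumann.x1_elemAb (p := 2) E
  refine ⟨E, U, hUT, CfsgLib.Baumann.x1_ne_bot hE.block, hUV, ?_, ?_, ?_⟩
  · by_contra hne
    exact hE.notM (le_sup_left.trans (S.red.uniq _ le_sup_right hne))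
  · intro y hy e he
    have hyE : y ∈ Subgroup.normalizer (E : Set G) :=
      CfsgLib.Baumann.centralizer_x1_le_normalizer hG hE.block hy
    show _ ∈ CfsgLib.Baumann.x1 2 E
    rw [← hE.core_two rfl, ← inf_centralizer_x1 hE.block]
    refine ⟨?_, ?_⟩
    · rw [show e * y * e⁻¹ * y⁻¹ = e * (y * e⁻¹ * y⁻¹) by group]
      exact E.mul_mem he (CfsgLib.Large.conj_mem_of_normalizer hyE (E.inv_mem he))
    · exact Subgroup.mul_mem _ (CfsgLib.Baumann.conj_mem_centralizer_x1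
        (CfsgLib.Baumann.block_le_normalizer_x1 he) hy) (Subgroup.inv_mem _ hy)
  obtain ⟨e, he, he'⟩ := exists_three d hE
  -- an element of `J` centralizing `U` conjugates `e` to its product with an element of `U`
  have twist' : ∀ j ∈ J, j ∈ Subgroup.centralizer (U : Set G) →
      ∃ δ ∈ U, j * e * j⁻¹ = δ * e := fun j hj hjU =>
    ⟨_, twist c ha haT d hE hj hjU he he', (inv_mul_cancel_right _ _).symm⟩
  refine ⟨fun u hu => hUJ hu, fun j hj u hu => ?_, fun u hu => ?_, fun u hu v hv => ?_, ?_, ?_, ?_, ?_⟩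
  · show (j : G) * u * (j : G)⁻¹ ∈ U
    exact CfsgLib.Large.conj_mem_of_normalizer
      (CfsgLib.Baumann.le_normalizer_x1 E (hJE hj)) (show (u : G) ∈ U from hu)
  · refine Subtype.ext ?_
    have := hel.2 (u : G) hu
    rwa [pow_two] at this
  · exact Subtype.ext (elemAb_commute hel hu hv)
  · intro x hx hxU u hu hxu
    rw [mem_centralizer_subgroupOf hUT] at hxU
    rw [mem_centralizer_subgroupOf hJT]
    have h : e * ((x : G) * u * (x : G)⁻¹ * (u : G)⁻¹) = ((x : G) * u * (x : G)⁻¹ * (u : G)⁻¹) * e := by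
      rw [show (x : G) * u = u * x from congrArg Subtype.val hxu]
      group
    exact (no_component c ha haT d hE he' hx hu h).resolve_right hxU
  · rw [centralizer_subgroupOf hUT, centralizer_subgroupOf hJT, Subgroup.relIndex_subgroupOf hJT,
      Subgroup.relIndex_subgroupOf hUT]
    exact card_le c ha haT d hE
  · intro g hg hgU x hx u hu hgx
    rw [mem_centralizer_subgroupOf hUT] at hgU ⊢
    rw [mem_centralizer_subgroupOf hJT]
    refine no_component c ha haT d hE he' hx hu ?_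
    simp only [Subgroup.coe_subtype]
    rw [show (x : G) * u * (x : G)⁻¹ * (u : G)⁻¹ = g * g from congrArg Subtype.val hgx]
    obtain ⟨δ, hδ, h1⟩ := twist' g hg hgU
    have h2 : (g : G) * δ = δ * g := (Subgroup.mem_centralizer_iff.1 hgU δ hδ).symm
    have h3 : δ * δ = 1 := by have := hel.2 δ hδ; rwa [pow_two] at this
    symm
    calc (g : G) * g * e = g * (g * e * (g : G)⁻¹) * g := by group
      _ = g * (δ * e) * g := by rw [h1]
      _ = (g * δ) * e * g := by group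
      _ = δ * (g * e * (g : G)⁻¹) * (g * g) := by rw [h2]; group
      _ = (δ * δ) * e * (g * g) := by rw [h1]; group
      _ = e * (g * g) := by rw [h3, one_mul]
  · intro g hg hgU k hk hkU x hx u hu hgx
    rw [mem_centralizer_subgroupOf hUT] at hgU hkU ⊢
    rw [mem_centralizer_subgroupOf hJT]
    refine no_component c ha haT d hE he' hx hu ?_
    simp only [Subgroup.coe_subtype]
    rw [show (x : G) * u * (x : G)⁻¹ * (u : G)⁻¹ = g * k * (g : G)⁻¹ * (k : G)⁻¹ from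
      congrArg Subtype.val hgx]
    obtain ⟨δ, hδ, h1⟩ := twist' (g : G)⁻¹ (inv_mem hg) (inv_mem hgU)
    obtain ⟨ε, hε, h2⟩ := twist' (k : G)⁻¹ (inv_mem hk) (inv_mem hkU)
    have hgε : (g : G)⁻¹ * ε = ε * (g : G)⁻¹ := (Subgroup.mem_centralizer_iff.1 (inv_mem hgU) ε hε).symm
    have hkδ : (k : G)⁻¹ * δ = δ * (k : G)⁻¹ := (Subgroup.mem_centralizer_iff.1 (inv_mem hkU) δ hδ).symm
    have h3 : ((g : G)⁻¹ * (k : G)⁻¹) * e * ((g : G)⁻¹ * (k : G)⁻¹)⁻¹ = ε * δ * e := by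
      calc _ = (g : G)⁻¹ * ((k : G)⁻¹ * e * (k : G)⁻¹⁻¹) * (g : G)⁻¹⁻¹ := by group
        _ = (g : G)⁻¹ * ε * e * (g : G)⁻¹⁻¹ := by rw [h2]; group
        _ = ε * ((g : G)⁻¹ * e * (g : G)⁻¹⁻¹) := by rw [hgε]; group
        _ = _ := by rw [h1]; group
    have h4 : ((k : G)⁻¹ * (g : G)⁻¹) * e * ((k : G)⁻¹ * (g : G)⁻¹)⁻¹ = ε * δ * e := by
      calc _ = (k : G)⁻¹ * ((g : G)⁻¹ * e * (g : G)⁻¹⁻¹) * (k : G)⁻¹⁻¹ := by group
        _ = (k : G)⁻¹ * δ * e * (k : G)⁻¹⁻¹ := by rw [h1]; group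
        _ = δ * ((k : G)⁻¹ * e * (k : G)⁻¹⁻¹) := by rw [hkδ]; group
        _ = _ := by rw [h2, ← mul_assoc, elemAb_commute hel hδ hε]
    calc e * (g * k * (g : G)⁻¹ * (k : G)⁻¹)
        = g * k * ((k : G)⁻¹ * (g : G)⁻¹ * e * ((k : G)⁻¹ * (g : G)⁻¹)⁻¹) * (g : G)⁻¹ * (k : G)⁻¹ := by group
      _ = g * k * ((g : G)⁻¹ * (k : G)⁻¹ * e * ((g : G)⁻¹ * (k : G)⁻¹)⁻¹) * (g : G)⁻¹ * (k : G)⁻¹ := by
        rw [h3, h4]
      _ = _ := by group

/-- A group of automorphisms of odd order of a Sylow 2-subgroup of a 2-minimal group of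
characteristic 2 leaves a nontrivial normal subgroup invariant. -/
theorem exists_invariant (hirr : ∀ S : Sylow 2 G, ∃! M : Subgroup G, IsCoatom M ∧ (S : Subgroup G) ≤ M)
    (hG : Subgroup.centralizer (pCore 2 G : Set G) ≤ pCore 2 G) (T : Sylow 2 G)
    (A : Subgroup (MulAut ↥(T : Subgroup G))) (hA : Odd (Nat.card A)) :
    ∃ N : Subgroup G, N ≠ ⊥ ∧ N.Normal ∧ N ≤ (T : Subgroup G) ∧
      ∀ b ∈ A, ∀ x : ↥(T : Subgroup G), (x : G) ∈ N → ((b x : ↥(T : Subgroup G)) : G) ∈ N := by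
  by_cases hex : ∃ C : Subgroup G, C ≤ (T : Subgroup G) ∧ C ≠ ⊥ ∧
      (C.subgroupOf (T : Subgroup G)).Characteristic ∧ C.Normal
  · obtain ⟨C, hCT, hC, hchar, hn⟩ := hex
    exact ⟨C, hC, hn, hCT, fun b _ x hx => Subgroup.characteristic_iff_le_comap.1 hchar b
      (show x ∈ C.subgroupOf (T : Subgroup G) from hx)⟩
  have hno : ∀ C : Subgroup G, C ≤ (T : Subgroup G) → C ≠ ⊥ →
      (C.subgroupOf (T : Subgroup G)).Characteristic → ¬ C.Normal :=
    fun C h1 h2 h3 h4 => hex ⟨C, h1, h2, h3, h4⟩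
  have hT : (T : Subgroup G) ≠ ⊥ := by
    intro e
    obtain ⟨M, ⟨hM, -⟩, -⟩ := hirr T
    have hQ : pCore 2 G = ⊥ := le_bot_iff.1 (e ▸ fun x hx => CfsgLib.PRed.pCore_le_sylow T hx)
    have h1 : (⊤ : Subgroup G) ≤ Subgroup.centralizer ((⊥ : Subgroup G) : Set G) := fun g _ =>
      Subgroup.mem_centralizer_iff.2 fun x hx => by
        rw [SetLike.mem_coe, Subgroup.mem_bot] at hx; simp [hx]
    rw [hQ] at hG
    exact hM.1 (top_le_iff.1 ((h1.trans hG).trans bot_le))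
  have hmin : IsPMinimal 2 G := by
    refine fun S => ⟨fun hn => ?_, hirr S⟩
    have := hn
    have hST : (S : Subgroup G) = T := by
      obtain ⟨g, hg⟩ := MulAction.exists_smul_eq G S T
      rw [← hg, Sylow.smul_eq_of_normal]
    exact hno _ le_rfl hT (by rw [Subgroup.subgroupOf_self]; exact Subgroup.topCharacteristic)
      (hST ▸ hn)
  have hne : charNormalizersJoin (T : Subgroup G) ≠ ⊤ := by
    obtain ⟨M, ⟨hM, hTM⟩, huniq⟩ := hirr T
    refine fun e => hM.1 (top_le_iff.1 (e ▸ iSup_le fun C => ?_))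
    obtain ⟨C, hC, hC1, hCc⟩ := C
    have hTN := Subgroup.le_normalizer.trans (normalizer_le_of_char hC hCc)
    obtain ⟨K, hK, hNK⟩ := (eq_top_or_exists_le_coatom (Subgroup.normalizer (C : Set G))).resolve_left
      fun e' => hno C hC hC1 hCc (Subgroup.normalizer_eq_top_iff.1 e')
    exact hNK.trans (huniq K ⟨hK, hTN.trans hNK⟩).le
  have hcs := CfsgLib.LocalEven.LocalCStar.cStar_ne_top hT hne
  obtain ⟨E, U, hUT, hU1, hUV, hET, hEc, hat⟩ := exists_atom hmin hG T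
    (CfsgLib.LocalEven.LocalCStar.pMinimal_hchar T hcs) (CfsgLib.LocalEven.LocalCStar.pMinimal_hz T hcs)
  set J := (thompson 2 (T : Subgroup G)).subgroupOf (T : Subgroup G)
  set U₀ := U.subgroupOf (T : Subgroup G)
  have hJ : ∀ e : MulAut ↥(T : Subgroup G), J.map e.toMonoidHom = J :=
    Subgroup.characteristic_iff_map_eq.1 (thompson_char le_rfl (thompson_le 2 (T : Subgroup G)))
  -- the images of the conjugates
  let f : ↥A → ↥(T : Subgroup G) → Subgroup ↥(T : Subgroup G) := fun b t =>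
    (U₀.map (MulAut.conj t).toMonoidHom).map (b : MulAut ↥(T : Subgroup G)).toMonoidHom
  set N₀ : Subgroup ↥(T : Subgroup G) := ⨆ b, ⨆ t, f b t
  set N := N₀.map (T : Subgroup G).subtype
  have hcomm : ∀ s t : ↥(T : Subgroup G), ¬ Adj (U₀.map (MulAut.conj s).toMonoidHom) (U₀.map (MulAut.conj t).toMonoidHom) := by
    refine fun s t h => h ?_
    rintro _ ⟨v, hv, rfl⟩
    refine Subgroup.mem_centralizer_iff.2 ?_
    rintro _ ⟨u, hu, rfl⟩
    refine Subtype.ext (elemAb_commute (VV_elem (G := G) 2) ?_ ?_)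
    · exact (VV_normal (G := G) 2).conj_mem _ (hUV hu) s
    · exact (VV_normal (G := G) 2).conj_mem _ (hUV hv) t
  have hcent : N ≤ Subgroup.centralizer (U : Set G) := by
    rintro _ ⟨y, hy, rfl⟩
    refine (mem_centralizer_subgroupOf hUT).1 ((iSup₂_le (fun b t => ?_) : N₀ ≤ _) hy)
    have hodd : Odd (orderOf (b : MulAut ↥(T : Subgroup G))) := by
      rw [Subgroup.orderOf_coe]
      exact hA.of_dvd_nat (orderOf_dvd_natCard b)
    have h := commute_image hat hJ hcomm (b : MulAut ↥(T : Subgroup G)) hodd 1 t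
    have e1 : U₀.map (MulAut.conj (1 : ↥(T : Subgroup G))).toMonoidHom = U₀ := by
      rw [map_one]; exact Subgroup.map_id _
    rwa [e1] at h
  have hUN : U ≤ N := fun u hu => by
    have h1 : f (1 : ↥A) (1 : ↥(T : Subgroup G)) ≤ N₀ := le_iSup_of_le (1 : ↥A) (le_iSup_of_le (1 : ↥(T : Subgroup G)) le_rfl)
    refine ⟨⟨u, hUT hu⟩, h1 ⟨⟨u, hUT hu⟩, ⟨⟨u, hUT hu⟩, hu, ?_⟩, rfl⟩, rfl⟩
    simp
  have hNT : N ≤ (T : Subgroup G) := Subgroup.map_subtype_le _
  have hEN : E ≤ Subgroup.normalizer (N : Set G) := fun e he =>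
    CfsgLib.Large.mem_normalizer_of_conj_mem fun y hy => by
      have := mul_mem (hUN (hEc y (hcent hy) e he)) hy
      simpa using this
  have hTN : (T : Subgroup G) ≤ Subgroup.normalizer (N : Set G) := fun t ht =>
    CfsgLib.Large.mem_normalizer_of_conj_mem fun y hy => by
      obtain ⟨y, hy, rfl⟩ := hy
      refine ⟨⟨t, ht⟩ * y * ⟨t, ht⟩⁻¹, ?_, rfl⟩
      have h : N₀.map (MulAut.conj (⟨t, ht⟩ : ↥(T : Subgroup G))).toMonoidHom ≤ N₀ := by
        rw [Subgroup.map_iSup]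
        refine iSup_le fun b => ?_
        rw [Subgroup.map_iSup]
        refine iSup_le fun s => le_iSup₂_of_le b ((b : MulAut ↥(T : Subgroup G)).symm ⟨t, ht⟩ * s) (le_of_eq ?_)
        simp only [f, Subgroup.map_map]
        congr 1
        ext z
        simp [mul_assoc]
      exact h ⟨y, hy, rfl⟩
  refine ⟨N, fun e => hU1 (le_bot_iff.1 (e ▸ hUN)), Subgroup.normalizer_eq_top_iff.1
    (top_le_iff.1 (hET.ge.trans (sup_le hEN hTN))), hNT, fun b hb x hx => ?_⟩
  obtain ⟨y, hy, hyx⟩ := hx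
  obtain rfl : y = x := (T : Subgroup G).subtype_injective hyx
  refine ⟨b y, ?_, rfl⟩
  have h : N₀.map b.toMonoidHom ≤ N₀ := by
    rw [Subgroup.map_iSup]
    refine iSup_le fun c => ?_
    rw [Subgroup.map_iSup]
    refine iSup_le fun s => le_iSup₂_of_le (⟨b, hb⟩ * c) s (le_of_eq ?_)
    simp only [f, Subgroup.map_map]
    congr 1
  exact h ⟨y, hy, rfl⟩

end CfsgLib.SylowAut74
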